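import Mathlib
import Cfsg.Agent.Subfield54.SpRoot

/-!
An irrational transvection yields an irrational long root element at a rational vector.
-/

set_option autoImplicit false

namespace CfsgLib.Subfield54.Sp

open Matrix CfsgLib.TransvGL CfsgLib.AltFormTransv CfsgLib.Dickson

variable {F : Type*} [Field F] [Fintype F] {F₀ : Subfield F}

/-- A subspace image of small dimension is not everything. -/
theorem exists_not_mem_image {r k : ℕ} (hcard : Fintype.card F = Nat.card F₀ ^ r) (hk : k < r)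
    (L : (Fin k → F₀) → F) : ∃ x, ∀ c, L c ≠ x := by
  by_contra hno
  push Not at hno
  have := Nat.card_le_card_of_surjective L hno
  rw [Nat.card_fun, Nat.card_eq_fintype_card (α := F), hcard, Nat.card_eq_fintype_card (α := Fin k),
    Fintype.card_fin] at this
  exact absurd this (not_le.mpr (Nat.pow_lt_pow_right Finite.one_lt_card hk))

/-- An element outside the subfield is not quadratic over it. -/
theorem not_quadratic {r : ℕ} (hr : r.Prime) (hcard : Fintype.card F = Nat.card F₀ ^ r) (h3 : 3 ≤ r)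
    {ρ : F} (hρ : ρ ∉ F₀) {u v : F} (hu : u ∈ F₀) (hv : v ∈ F₀) : ρ ^ 2 ≠ u + v * ρ := by
  intro h
  have hall := eq_univ_of_mul_closed hr hcard {x | ∃ c₀ ∈ F₀, ∃ c₁ ∈ F₀, x = c₀ + c₁ * ρ}
    (fun x hx => ⟨x, hx, 0, F₀.zero_mem, by ring⟩)
    (by rintro _ ⟨a, ha, b, hb, rfl⟩ _ ⟨c, hc, d, hd, rfl⟩
        exact ⟨a + c, F₀.add_mem ha hc, b + d, F₀.add_mem hb hd, by ring⟩)
    (by rintro _ ⟨a, ha, b, hb, rfl⟩ _ ⟨c, hc, d, hd, rfl⟩
        refine ⟨a * c + b * d * u, F₀.add_mem (F₀.mul_mem ha hc) (F₀.mul_mem (F₀.mul_mem hb hd) hu),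
          a * d + b * c + b * d * v, F₀.add_mem (F₀.add_mem (F₀.mul_mem ha hd) (F₀.mul_mem hb hc))
            (F₀.mul_mem (F₀.mul_mem hb hd) hv), ?_⟩
        linear_combination b * d * h)
    ⟨0, F₀.zero_mem, 1, F₀.one_mem, by ring⟩ hρ
  obtain ⟨x, hx⟩ := exists_not_mem_image hcard (k := 2) (by omega)
    fun c => (c 0 : F) + (c 1 : F) * ρ
  obtain ⟨c₀, h₀, c₁, h₁, e⟩ := hall x
  exact hx ![⟨c₀, h₀⟩, ⟨c₁, h₁⟩] (by simpa using e.symm)

variable {ι : Type} [Fintype ι] [DecidableEq ι] {f : (ι → F) → (ι → F) → F}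
variable (hf : Cfsg.Geo.IsSymplecticForm f) (hR : RatForm f F₀) {M : Subgroup (GL ι F)}
  (hI : ∀ g ∈ M, ∀ x y, f ((g : Matrix ι ι F) *ᵥ x) ((g : Matrix ι ι F) *ᵥ y) = f x y)
  (hT : ∀ v c, Rat F₀ v → c ∈ F₀ → sympT hf v c ∈ M)

omit [Fintype F] in
theorem RatLine.pair_ratio (hR : RatForm f F₀) (hf : Cfsg.Geo.IsSymplecticForm f) {v y y' : ι → F}
    (hv : RatLine F₀ v) (hy : Rat F₀ y) (hy' : Rat F₀ y') : f v y / f v y' ∈ F₀ := by
  obtain ⟨t, u, hu, rfl⟩ := hv
  rw [hf.bilinear.smul_left, hf.bilinear.smul_left]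
  by_cases ht : t = 0
  · simp [ht, F₀.zero_mem]
  · rw [mul_div_mul_left _ _ ht]
    exact F₀.div_mem (hR _ _ hu hy) (hR _ _ hu hy')

include hR hI hT in
/-- A transvection with no rational vector orthogonal to its centre. -/
theorem long_root_of_injective {r : ℕ} (hr : r.Prime) (hcard : Fintype.card F = Nat.card F₀ ^ r)
    (hn : 6 ≤ Fintype.card ι) {b : ι → F} (hbM : sympT hf b 1 ∈ M) (hb0 : b ≠ 0)
    (hinj : ∀ w, Rat F₀ w → f w b = 0 → w = 0) :
    ∃ a, Rat F₀ a ∧ a ≠ 0 ∧ ∃ σ, σ ∉ F₀ ∧ sympT hf a σ ∈ M := by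
  classical
  have hr6 : 6 ≤ r := by
    by_contra hlt
    let L : (ι → F₀) → F := fun v => f (fun i => (v i : F)) b
    have hL : Function.Injective L := fun v w h => funext fun i => Subtype.ext (by
      have := congrFun (hinj ((fun i => (v i : F)) - fun i => (w i : F))
        (fun i => F₀.sub_mem (v i).2 (w i).2) (by rw [sub_left hf]; exact sub_eq_zero.mpr h)) i
      exact sub_eq_zero.mp this)
    have := Nat.card_le_card_of_injective L hL
    rw [Nat.card_fun, Nat.card_eq_fintype_card (α := F), hcard,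
      Nat.card_eq_fintype_card (α := ι)] at this
    exact absurd this (not_le.mpr (Nat.pow_lt_pow_right Finite.one_lt_card (by omega)))
  by_contra hno
  have horth : ∀ (a c : ι → F) (k : F), k ≠ 0 → sympT hf c k ∈ M → Rat F₀ a → a ≠ 0 → f a c = 0 →
      RatLine F₀ c := fun a c k hk hc ha ha0 hac => by
    by_contra hL
    exact hno ⟨a, ha, ha0, long_root_of_orth hf hR hT hn hk hc hL ha ha0 hac⟩
  -- the three vectors
  obtain ⟨i₀, -⟩ := exists_coord_ne hb0
  set a : ι → F := Pi.single i₀ 1 with ha_def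
  have ha : Rat F₀ a := rat_single i₀
  have ha0 : a ≠ 0 := by simp [ha_def]
  set p := f a b with hp_def
  have hp : p ≠ 0 := fun h => ha0 (hinj a ha h)
  obtain ⟨y₁, hy₁, hy₁a⟩ := exists_rat_pair_ne (F₀ := F₀) hf ha0
  set e := (f y₁ a)⁻¹ • y₁ with he_def
  have her : Rat F₀ e := hy₁.smul (F₀.inv_mem (hR _ _ hy₁ ha))
  have hea : f e a = 1 := by rw [he_def, hf.bilinear.smul_left, inv_mul_cancel₀ hy₁a]
  obtain ⟨a', ha', ha'0, hk'⟩ := exists_rat_kernel (F₀ := F₀) (k := 2) (by omega)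
    ![pair hf a, pair hf e] (by simp [Fin.forall_fin_two, ratD_pair hf hR, ha, her])
  have ha'a : f a' a = 0 := hk' 0
  have haa' : f a a' = 0 := orth_comm hf ha'a
  have ha'e : f a' e = 0 := hk' 1
  have hea' : f e a' = 0 := orth_comm hf ha'e
  have hae : f a e = -1 := by rw [hf.skew, hea]
  set p' := f a' b with hp'_def
  set ρ := p' / p with hρ_def
  have hρp : ρ * p = p' := by rw [hρ_def, div_mul_cancel₀ _ hp]
  have hli : ∀ s : F, a' ≠ s • a := fun s hs => ha'0 (by
    have : f a' e = -s := by rw [hs, hf.bilinear.smul_left, hae, mul_neg_one]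
    rw [hs, neg_eq_zero.mp (this.symm.trans ha'e), zero_smul])
  have hρ : ρ ∉ F₀ := fun h => hli ρ (sub_eq_zero.mp (hinj _ (ha'.sub (ha.smul h))
    (by rw [sub_left hf, hf.bilinear.smul_left, ← hp_def, hρp]; exact sub_self _)))
  have hquad : ∀ {u v : F}, u ∈ F₀ → v ∈ F₀ → ρ ^ 2 ≠ u + v * ρ :=
    not_quadratic hr hcard (by omega) hρ
  have hρ2 : ρ ^ 2 ∉ F₀ := fun h => hquad h F₀.zero_mem (by ring)
  obtain ⟨y₂, hy₂, hy₂a, hy₂a'⟩ := exists_rat_perp_sep hf hR ha ha0 (a := a') hli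
  set e' := (f y₂ a')⁻¹ • y₂ with he'_def
  have he'r : Rat F₀ e' := hy₂.smul (F₀.inv_mem (hR _ _ hy₂ ha'))
  have he'a : f e' a = 0 := by rw [he'_def, hf.bilinear.smul_left, hy₂a, mul_zero]
  have he'a' : f e' a' = 1 := by rw [he'_def, hf.bilinear.smul_left, inv_mul_cancel₀ hy₂a']
  have hba : f b a = -p := hf.skew b a
  have hba' : f b a' = -p' := hf.skew b a'
  set R := p' • a - p • a' with hR_def
  have hRb : f R b = 0 := by
    rw [hR_def, sub_left hf, hf.bilinear.smul_left, hf.bilinear.smul_left, ← hp_def, ← hp'_def]; ring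
  have hRa : f R a = 0 := by
    rw [hR_def, sub_left hf, hf.bilinear.smul_left, hf.bilinear.smul_left, hf.alternating, ha'a]; ring
  have hRa' : f R a' = 0 := by
    rw [hR_def, sub_left hf, hf.bilinear.smul_left, hf.bilinear.smul_left, hf.alternating, haa']; ring
  clear_value p p' e e' R ρ
  have ha'eq : a' = ρ • a - p⁻¹ • R := by
    rw [hR_def, smul_sub, smul_smul, smul_smul, inv_mul_cancel₀ hp, one_smul,
      show p⁻¹ * p' = ρ by rw [← hρp]; field_simp]
    module
  -- the plane group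
  let Kset : Set (GL (Fin 2) F) := {k | ∃ g ∈ M, ∃ α β : F,
    (g : Matrix ι ι F) *ᵥ a = k 0 0 • a + k 1 0 • b + α • R ∧
    (g : Matrix ι ι F) *ᵥ b = k 0 1 • a + k 1 1 • b + β • R ∧
    ∀ z, f z a = 0 → f z a' = 0 → f z b = 0 → (g : Matrix ι ι F) *ᵥ z = z}
  have hone : (1 : GL (Fin 2) F) ∈ Kset :=
    ⟨1, M.one_mem, 0, 0, by simp, by simp, fun z _ _ _ => by simp⟩
  have hmul : ∀ {k k'}, k ∈ Kset → k' ∈ Kset → k * k' ∈ Kset := by
    rintro k k' ⟨g, hg, α, β, ga, gb, gz⟩ ⟨g', hg', α', β', ga', gb', gz'⟩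
    have gR := gz R hRa hRa' hRb
    refine ⟨g * g', M.mul_mem hg hg', k' 0 0 * α + k' 1 0 * β + α', k' 0 1 * α + k' 1 1 * β + β',
      ?_, ?_, fun z h1 h2 h3 => by rw [Units.val_mul, ← mulVec_mulVec, gz' z h1 h2 h3, gz z h1 h2 h3]⟩
    · rw [Units.val_mul, ← mulVec_mulVec, ga', mulVec_add, mulVec_add, mulVec_smul, mulVec_smul,
        mulVec_smul, ga, gb, gR]
      simp only [Units.val_mul, Matrix.mul_apply, Fin.sum_univ_two]
      module
    · rw [Units.val_mul, ← mulVec_mulVec, gb', mulVec_add, mulVec_add, mulVec_smul, mulVec_smul,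
        mulVec_smul, ga, gb, gR]
      simp only [Units.val_mul, Matrix.mul_apply, Fin.sum_univ_two]
      module
  let K : Subgroup (GL (Fin 2) F) :=
    { carrier := Kset
      one_mem' := hone
      mul_mem' := hmul
      inv_mem' := fun {k} hk => by
        have hpow : ∀ m : ℕ, k ^ m ∈ Kset := fun m => by
          induction m with
          | zero => simpa using hone
          | succ m ih => rw [pow_succ]; exact hmul ih hk
        have : k⁻¹ = k ^ (orderOf k - 1) := by
          refine inv_eq_of_mul_eq_one_right ?_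
          rw [← pow_succ', Nat.sub_add_cancel (orderOf_pos k), pow_orderOf_eq_one]
        rw [this]; exact hpow _ }
  let U : AddSubgroup F :=
    { carrier := {x | ∃ c₁ ∈ F₀, ∃ c₂ ∈ F₀, x = p * (c₁ + c₂ * ρ ^ 2)}
      zero_mem' := ⟨0, F₀.zero_mem, 0, F₀.zero_mem, by ring⟩
      add_mem' := by
        rintro _ _ ⟨a, ha, b, hb, rfl⟩ ⟨c, hc, d, hd, rfl⟩
        exact ⟨a + c, F₀.add_mem ha hc, b + d, F₀.add_mem hb hd, by ring⟩
      neg_mem' := by
        rintro _ ⟨a, ha, b, hb, rfl⟩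
        exact ⟨-a, F₀.neg_mem ha, -b, F₀.neg_mem hb, by ring⟩ }
  have hUF : ∀ c ∈ F₀, ∀ u ∈ U, c * u ∈ U := by
    rintro c hc _ ⟨a, ha, b, hb, rfl⟩
    exact ⟨c * a, F₀.mul_mem hc ha, c * b, F₀.mul_mem hc hb, by ring⟩
  have hUK : ∀ u ∈ U, upperT u ∈ K := by
    rintro _ ⟨c₁, h₁, c₂, h₂, rfl⟩
    refine ⟨sympT hf a (-c₁) * sympT hf a' (-c₂),
      M.mul_mem (hT _ _ ha (F₀.neg_mem h₁)) (hT _ _ ha' (F₀.neg_mem h₂)), 0, -(c₂ * ρ), ?_, ?_,
      fun z hz1 hz2 _ => ?_⟩
    · simp [Units.val_mul, ← mulVec_mulVec, sympT_mulVec, haa', hf.alternating,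
        upperT, GeneralLinearGroup.mkOfDetNeZero]
    · rw [Units.val_mul, ← mulVec_mulVec, sympT_mulVec, sympT_mulVec, hf.bilinear.add_left,
        hf.bilinear.smul_left, ha'a, hba, hba', ha'eq, ← hρp]
      simp [upperT, GeneralLinearGroup.mkOfDetNeZero]
      match_scalars <;> field_simp <;> ring
    · simp [Units.val_mul, ← mulVec_mulVec, sympT_mulVec, hz1, hz2]
  let g₀ : GL (Fin 2) F := GeneralLinearGroup.mkOfDetNeZero !![1, 0; p, 1] (by simp [det_fin_two])
  have hg₀ : g₀ ∈ K := ⟨sympT hf b 1, hbM, 0, 0,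
    by simp [sympT_mulVec, g₀, GeneralLinearGroup.mkOfDetNeZero, hp_def],
    by simp [sympT_mulVec, hf.alternating, g₀, GeneralLinearGroup.mkOfDetNeZero],
    fun z _ _ hz => by simp [sympT_mulVec, hz]⟩
  have hall := exists_smul_upperT hr hcard K U hUF hUK (u₁ := p) (u₂ := p * ρ ^ 2)
    ⟨1, F₀.one_mem, 0, F₀.zero_mem, by ring⟩ ⟨0, F₀.zero_mem, 1, F₀.one_mem, by ring⟩ hp
    (by rwa [mul_div_cancel_left₀ _ hp]) hp hg₀ rfl
  obtain ⟨x₀, hx₀⟩ := exists_not_mem_image hcard (k := 3) (by omega)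
    fun c : Fin 3 → F₀ => -p * ((c 0 : F) + (c 1 : F) * ρ + (c 2 : F) * ρ ^ 2)
  obtain ⟨h, hhM, α, β, hha, hhb, hhz⟩ : ∃ h ∈ M, ∃ α β : F,
      (h : Matrix ι ι F) *ᵥ a = a + α • R ∧ (h : Matrix ι ι F) *ᵥ b = x₀ • a + b + β • R ∧
      ∀ z, f z a = 0 → f z a' = 0 → f z b = 0 → (h : Matrix ι ι F) *ᵥ z = z := by
    obtain ⟨k, ⟨g, hg, α, β, ga, gb, gz⟩, s, hs, hk⟩ :=
      hall (if (2 : F) = 0 then x₀ else x₀ / 2)
    rw [hk] at ga gb
    simp only [Matrix.cons_val', Matrix.cons_val_zero, Matrix.cons_val_one, Matrix.of_apply,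
      Matrix.empty_val', Matrix.cons_val_fin_one, zero_smul, add_zero] at ga gb
    generalize hx' : (if (2 : F) = 0 then x₀ else x₀ / 2) = x' at gb
    have hs2 : s ^ 2 = 1 := by
      have := hI g hg a b
      rw [ga, gb] at this
      simp [hf.bilinear.add_left, hf.bilinear.add_right, hf.bilinear.smul_left, hf.bilinear.smul_right,
        hf.alternating, hRb, hRa, orth_comm hf hRa, ← hp_def] at this
      refine mul_right_cancel₀ hp ?_
      linear_combination this
    by_cases h2 : (2 : F) = 0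
    · rw [← hx', if_pos h2] at gb
      have hs1 : s = 1 := by
        have : (s - 1) ^ 2 = 0 := by linear_combination hs2 + (1 - s) * h2
        exact sub_eq_zero.mp (pow_eq_zero_iff two_ne_zero |>.mp this)
      subst hs1
      exact ⟨g, hg, α, β, by simpa using ga, by simpa using gb, gz⟩
    · rw [← hx', if_neg h2] at gb
      have gR := gz R hRa hRa' hRb
      refine ⟨g * g, M.mul_mem hg hg, s * α + α, s * (x₀ / 2) * α + s * β + β, ?_, ?_,
        fun z h1 h2 h3 => by rw [Units.val_mul, ← mulVec_mulVec, gz z h1 h2 h3, gz z h1 h2 h3]⟩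
      · rw [Units.val_mul, ← mulVec_mulVec, ga, mulVec_add, mulVec_smul, mulVec_smul, ga, gR]
        have : s * s = 1 := by rw [← sq, hs2]
        linear_combination (norm := module) this • a
      · rw [Units.val_mul, ← mulVec_mulVec, gb, mulVec_add, mulVec_add, mulVec_smul, mulVec_smul,
          mulVec_smul, ga, gb, gR]
        have : s * s = 1 := by rw [← sq, hs2]
        have hx2 : x₀ / 2 + x₀ / 2 = x₀ := by field_simp; ring
        linear_combination (norm := module) this • ((x₀ / 2 + x₀ / 2) • a + b) + hx2 • a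
  have hha' : (h : Matrix ι ι F) *ᵥ a' = a' + (ρ * α) • R := by
    rw [ha'eq, mulVec_sub, mulVec_smul, mulVec_smul, hha, hhz R hRa hRa' hRb]; module
  have hpres := hI h hhM
  have hcentre : ∀ v, Rat F₀ v → f a v = 0 → f a R = 0 →
      f a ((h : Matrix ι ι F) *ᵥ v) = 0 → RatLine F₀ ((h : Matrix ι ι F) *ᵥ v) := by
    intro v hv _ _ hav
    refine horth a _ 1 one_ne_zero ?_ ha ha0 hav
    rw [← sympT_conj hf hpres]
    exact M.mul_mem (M.mul_mem hhM (hT v 1 hv F₀.one_mem)) (M.inv_mem hhM)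
  have haR : f a R = 0 := orth_comm hf hRa
  have hα : α = 0 := by
    by_contra hα
    have hm : α * p ≠ 0 := mul_ne_zero hα hp
    have e1 := RatLine.pair_ratio hR hf (hcentre a ha (hf.alternating a) haR
      (by rw [hha, hf.bilinear.add_right, hf.bilinear.smul_right, hf.alternating, haR]; ring)) her he'r
    have e2 := RatLine.pair_ratio hR hf (hcentre a' ha' haa' haR
      (by rw [hha', hf.bilinear.add_right, hf.bilinear.smul_right, haa', haR]; ring)) he'r her
    have e3 := RatLine.pair_ratio hR hf (hcentre (a + a') (ha.add ha')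
      (by rw [hf.bilinear.add_right, hf.alternating, haa', add_zero]) haR
      (by rw [mulVec_add, hha, hha']; simp [hf.bilinear.add_right, hf.bilinear.smul_right, hf.alternating,
        haa', haR])) her he'r
    have hae' : f a e' = 0 := orth_comm hf he'a
    have ha'e' : f a' e' = -1 := by rw [hf.skew, he'a']
    have hRe : f R e = -p' := by
      rw [hR_def, sub_left hf, hf.bilinear.smul_left, hf.bilinear.smul_left, hae, ha'e]; ring
    have hRe' : f R e' = p := by
      rw [hR_def, sub_left hf, hf.bilinear.smul_left, hf.bilinear.smul_left, hae', ha'e']; ring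
    rw [hha] at e1
    rw [hha'] at e2
    rw [mulVec_add, hha, hha'] at e3
    simp only [hf.bilinear.add_left, hf.bilinear.smul_left, hae, hae', ha'e, ha'e', hRe, hRe', ← hρp]
      at e1 e2 e3
    set γ := 1 / (α * p) with hγ
    set c := (-1 + α * -(ρ * p)) / (0 + α * p) with hc_def
    set c' := (-1 + ρ * α * p) / (0 + ρ * α * -(ρ * p)) with hc'_def
    have k1 : γ + ρ = -c := by rw [hγ, hc_def]; field_simp; ring
    have hρ0 : ρ ≠ 0 := fun h => hρ (h ▸ F₀.zero_mem)
    have k2 : γ - ρ = c' * ρ ^ 2 := by rw [hγ, hc'_def]; field_simp; ring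
    by_cases hc' : c' = 0
    · rw [hc'] at k2
      by_cases h2 : (2 : F) = 0
      · have hap : α * p * ρ = 1 := by
          have : γ = ρ := by linear_combination k2
          rw [← this, hγ, mul_one_div, div_self hm]
        apply hρ2
        convert e3 using 1
        have hn2 : (-1 + α * -(ρ * p) + (0 + ρ * α * -(ρ * p)) : F) = -ρ := by
          linear_combination (-1 - ρ) * hap - h2
        have hd2 : (0 + α * p + (-1 + ρ * α * p) : F) = α * p := by linear_combination hap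
        rw [hn2, hd2, eq_div_iff hm]
        linear_combination ρ * hap + ρ * h2
      · apply hρ
        have : ρ = -c / 2 := by field_simp; linear_combination k1 - k2
        rw [this]
        exact F₀.div_mem (F₀.neg_mem e1) (by simpa using F₀.add_mem F₀.one_mem F₀.one_mem |> (one_add_one_eq_two (R := F) ▸ ·))
    · exact hquad (u := -c / c') (v := -2 / c') (F₀.div_mem (F₀.neg_mem e1) e2)
        (F₀.div_mem (F₀.neg_mem (by simpa using F₀.add_mem F₀.one_mem F₀.one_mem |> (one_add_one_eq_two (R := F) ▸ ·))) e2)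
        (by field_simp; linear_combination k1 - k2)
  subst hα
  simp only [zero_smul, add_zero, mul_zero] at hha hha'
  have hperp : ∀ z, f z a = 0 → f z a' = 0 → (h : Matrix ι ι F) *ᵥ z = z := by
    intro z h1 h2
    have := hhz (z - (f z b / p) • a) (by rw [sub_left hf, hf.bilinear.smul_left, h1, hf.alternating]; ring)
      (by rw [sub_left hf, hf.bilinear.smul_left, h2, haa']; ring)
      (by rw [sub_left hf, hf.bilinear.smul_left, ← hp_def]; field_simp; ring)
    rwa [mulVec_sub, mulVec_smul, hha, sub_left_inj] at this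
  -- the images of the dual pair are rational
  have hline : ∀ v w, Rat F₀ v → Rat F₀ w → w ≠ 0 → (h : Matrix ι ι F) *ᵥ w = w → f w v = 0 →
      ∀ y, Rat F₀ y → (h : Matrix ι ι F) *ᵥ y = y → f y v ≠ 0 →
        Rat F₀ ((h : Matrix ι ι F) *ᵥ v) := by
    intro v w hv hw hw0 hhw hwv y hy hhy hyv
    obtain ⟨t, u, hu, htu⟩ := horth w ((h : Matrix ι ι F) *ᵥ v) 1 one_ne_zero
      (by rw [← sympT_conj hf hpres]
          exact M.mul_mem (M.mul_mem hhM (hT v 1 hv F₀.one_mem)) (M.inv_mem hhM))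
      hw hw0 (by rw [← hhw, hpres, hwv])
    have h1 : t * f y u = f y v := by
      rw [← hf.bilinear.smul_right, ← htu]
      conv_lhs => rw [← hhy]
      rw [hpres]
    have hyu : f y u ≠ 0 := fun h0 => hyv (by rw [← h1, h0, mul_zero])
    rw [htu]
    refine hu.smul ?_
    rw [eq_div_iff hyu |>.mpr h1]
    exact F₀.div_mem (hR _ _ hy hv) (hR _ _ hy hu)
  have hher := hline e a' her ha' ha'0 hha' ha'e a ha hha (by rw [hae]; exact neg_ne_zero.mpr one_ne_zero)
  have hhe'r := hline e' a he'r ha ha0 hha (orth_comm hf he'a) a' ha' hha'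
    (by rw [hf.skew, he'a']; exact neg_ne_zero.mpr one_ne_zero)
  -- the coefficients of a displacement
  have hdisp : ∀ v, (h : Matrix ι ι F) *ᵥ v - v =
      f e ((h : Matrix ι ι F) *ᵥ v - v) • a + f e' ((h : Matrix ι ι F) *ᵥ v - v) • a' := by
    intro v
    set d := (h : Matrix ι ι F) *ᵥ v - v with hd
    refine pairHom_injective hf (LinearMap.ext fun x => ?_)
    show f x d = f x (f e d • a + f e' d • a')
    have hx0 := hperp (x - f x a • e - f x a' • e')
      (by simp [sub_left hf, hf.bilinear.smul_left, hea, he'a])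
      (by simp [sub_left hf, hf.bilinear.smul_left, hea', he'a'])
    have h0 : f (x - f x a • e - f x a' • e') d = 0 := by
      rw [hd, sub_right hf, sub_eq_zero]
      conv_lhs => rw [← hx0]
      rw [hpres]
    rw [sub_left hf, sub_left hf, hf.bilinear.smul_left, hf.bilinear.smul_left] at h0
    rw [hf.bilinear.add_right, hf.bilinear.smul_right, hf.bilinear.smul_right]
    linear_combination h0
  obtain ⟨de, hde⟩ : ∃ d, d = (h : Matrix ι ι F) *ᵥ e - e := ⟨_, rfl⟩
  obtain ⟨de', hde'⟩ : ∃ d, d = (h : Matrix ι ι F) *ᵥ e' - e' := ⟨_, rfl⟩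
  have hb' : (h : Matrix ι ι F) *ᵥ b - b = f b a • de + f b a' • de' := by
    have := hperp (b - f b a • e - f b a' • e')
      (by simp [sub_left hf, hf.bilinear.smul_left, hea, he'a])
      (by simp [sub_left hf, hf.bilinear.smul_left, hea', he'a'])
    rw [mulVec_sub, mulVec_sub, mulVec_smul, mulVec_smul] at this
    rw [hde, hde']
    linear_combination (norm := module) this
  have hl := congrArg (f · b) hb'
  have hd1 := hdisp e
  have hd2 := hdisp e'
  rw [← hde] at hd1
  rw [← hde'] at hd2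
  refine hx₀ ![⟨f e de, hR _ _ her (hde ▸ hher.sub her)⟩,
    ⟨f e' de + f e de', F₀.add_mem (hR _ _ he'r (hde ▸ hher.sub her)) (hR _ _ her (hde' ▸ hhe'r.sub he'r))⟩,
    ⟨f e' de', hR _ _ he'r (hde' ▸ hhe'r.sub he'r)⟩] ?_
  set l₁ := f e de
  set l₂ := f e' de
  set m₁ := f e de'
  set m₂ := f e' de'
  rw [hd1, hd2, hhb] at hl
  simp [sub_left hf, neg_left hf, hf.bilinear.add_left, hf.bilinear.smul_left, hRb, ← hp_def, ← hp'_def, hba, hba'] at hl
  simp
  refine mul_right_cancel₀ hp ?_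
  linear_combination -hl - (p * l₂ + ρ * p * m₂ + p * m₁ + p' * m₂) * hρp

end CfsgLib.Subfield54.Sp
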